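import Cfsg.Agent.SzDeg.Group

/-!
A lower bound for the degree of a representation of a Suzuki group that is not trivial on the centre of
the unipotent radical.
-/

set_option autoImplicit false

namespace Cfsg.Agent.SzDeg

open Cfsg.Lie Matrix

variable {F : Type*} [Field F] [Fintype F] [CharP F 2] {m : ℕ}

omit [Fintype F] in
theorem addChar_mul_self (χ : AddChar F ℂ) (x : F) : χ x * χ x = 1 := by
  rw [← AddChar.map_add_eq_mul, CharTwo.add_self_eq_zero, AddChar.map_zero_eq_one]

/-- The orthogonality relation for shifts of one character. -/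
theorem sum_shift (χ : AddChar F ℂ) (hχ : χ ≠ 1) (c : F) [Decidable (c = 0)] :
    (∑ x : F, χ (c * x)) = if c = 0 then (Fintype.card F : ℂ) else 0 := by
  split_ifs with h
  · subst h; simp [AddChar.map_zero_eq_one]
  · exact AddChar.sum_eq_zero_of_ne_one (ψ := χ.mulShift c) fun h1 => hχ (by
      ext x
      have := DFunLike.congr_fun h1 (c⁻¹ * x)
      rwa [AddChar.mulShift_apply, mul_inv_cancel_left₀ h] at this)

/-- The symmetric pairing of the unipotent radical modulo its centre. -/
def pair (m : ℕ) (a b : F) : F := a ^ 2 ^ (m + 1) * b + b ^ 2 ^ (m + 1) * a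

theorem pair_add (a a' b : F) : pair m (a + a') b = pair m a b + pair m a' b := by
  simp only [pair, add_pow_char_pow]; ring

theorem pair_comm (a b : F) : pair m a b = pair m b a := by simp only [pair]; ring

/-- The radical of the pairing followed by a character. -/
def rad (m : ℕ) (χ : AddChar F ℂ) : AddSubgroup F where
  carrier := {c | ∀ b, χ (pair m c b) = 1}
  zero_mem' := fun b => by simp [pair, AddChar.map_zero_eq_one, zero_pow]
  add_mem' := fun {a a'} ha ha' b => by rw [pair_add, AddChar.map_add_eq_mul, ha b, ha' b, one_mul]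
  neg_mem' := fun {a} ha b => by rw [CharTwo.neg_eq]; exact ha b

theorem eq_one_of_pow_e_add_one (hF : Fintype.card F = 2 ^ (2 * m + 1)) {y : F} (hy : y ≠ 0)
    (h : y ^ 2 ^ (m + 1) * y = 1) : y = 1 := by
  have h1 : y ^ 2 ^ (m + 1) = y⁻¹ := eq_inv_of_mul_eq_one_left h
  have h2 := NilCover.pow_e_e hF y
  rw [h1, inv_pow, h1, inv_inv] at h2
  rw [pow_two] at h2
  exact (mul_left_cancel₀ hy (by rw [← h2, mul_one])).symm

theorem card_rad_le (hF : Fintype.card F = 2 ^ (2 * m + 1)) {χ : AddChar F ℂ} (hχ : χ ≠ 1) :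
    Nat.card (rad m χ) ≤ 2 := by
  classical
  set L : F →+ F := AddMonoidHom.mk' (fun x => x ^ 2 ^ (m + 1) + x) fun x y => by
    simp only [add_pow_char_pow]; ring with hL
  have hker : Nat.card L.ker ≤ 2 := by
    have : ∀ x ∈ L.ker, x = 0 ∨ x = 1 := by
      intro x hx
      have h1 : x ^ 2 ^ (m + 1) = x := CharTwo.add_eq_zero.1 hx
      have h2 := NilCover.pow_e_e hF x
      rw [h1, h1, pow_two] at h2
      rcases eq_or_ne x 0 with h | h
      · exact Or.inl h
      · exact Or.inr (mul_left_cancel₀ h (by rw [← h2, mul_one])).symm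
    refine (Nat.card_le_card_of_injective (fun x : L.ker => decide (x.1 = 0)) fun x y h => ?_).trans
      (by rw [Nat.card_eq_fintype_card, Fintype.card_bool])
    rcases this x x.2 with hx | hx <;> rcases this y y.2 with hy | hy <;>
      first | exact Subtype.ext (hx.trans hy.symm) | simp [hx, hy] at h
  have hidx : L.range.index ≤ 2 := by
    have h1 := L.range.card_mul_index
    have h2 := L.ker.card_mul_index
    rw [AddSubgroup.index_ker, mul_comm (Nat.card L.ker)] at h2
    rw [Nat.eq_of_mul_eq_mul_left Nat.card_pos (h1.trans h2.symm)]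
    exact hker
  have hne : ∀ C : F, C ≠ 0 → ∃ z, χ (C * z) ≠ 1 := by
    intro C hC
    by_contra hc
    push Not at hc
    refine hχ ?_
    ext x
    have := hc (C⁻¹ * x)
    rwa [mul_inv_cancel_left₀ hC] at this
  have hshift : ∀ c ∈ rad m χ, ∀ w ∈ L.range, χ (c ^ 2 ^ (m + 1) * c * w) = 1 := by
    rintro c hc _ ⟨x, rfl⟩
    rw [← hc (c * x)]
    congr 1
    simp only [hL, AddMonoidHom.mk'_apply, pair, mul_pow]
    ring
  have huniq : ∀ c ∈ rad m χ, ∀ d ∈ rad m χ, c ≠ 0 → d ≠ 0 → c = d := by
    intro c hc d hd hc0 hd0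
    set C := c ^ 2 ^ (m + 1) * c with hC
    set D := d ^ 2 ^ (m + 1) * d with hD
    have hC0 : C ≠ 0 := mul_ne_zero (pow_ne_zero _ hc0) hc0
    have hD0 : D ≠ 0 := mul_ne_zero (pow_ne_zero _ hd0) hd0
    have hidx2 : L.range.index = 2 := by
      rcases (by have := L.range.index_ne_zero_of_finite; omega : L.range.index = 1 ∨ L.range.index = 2) with h | h
      · obtain ⟨z, hz⟩ := hne C hC0
        exact absurd (hshift c hc z (by rw [AddSubgroup.index_eq_one.1 h]; trivial)) hz
      · exact h
    have hval : ∀ E, E ≠ 0 → (∀ w ∈ L.range, χ (E * w) = 1) → ∀ x, x ∉ L.range → χ (E * x) = -1 := by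
      intro E hE hw x hx
      rcases mul_self_eq_one_iff.1 (addChar_mul_self χ (E * x)) with h | h
      · obtain ⟨z, hz⟩ := hne E hE
        refine absurd ?_ hz
        by_cases hzm : z ∈ L.range
        · exact hw z hzm
        · have hxz : x + z ∈ L.range := (AddSubgroup.add_mem_iff_of_index_two hidx2).2 (iff_of_false hx hzm)
          have := hw _ hxz
          rw [mul_add, AddChar.map_add_eq_mul, h, one_mul] at this
          exact this
      · exact h
    have hall : ∀ x, χ ((C + D) * x) = 1 := by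
      intro x
      rw [add_mul, AddChar.map_add_eq_mul]
      by_cases hx : x ∈ L.range
      · rw [hshift c hc x hx, hshift d hd x hx, one_mul]
      · rw [hval C hC0 (hshift c hc) x hx, hval D hD0 (hshift d hd) x hx]
        norm_num
    have hCD : C = D := by
      by_contra h
      obtain ⟨z, hz⟩ := hne (C + D) fun h0 => h (CharTwo.add_eq_zero.1 h0)
      exact hz (hall z)
    have := eq_one_of_pow_e_add_one hF (div_ne_zero hc0 hd0) (by
      rw [div_pow, div_mul_div_comm, ← hC, ← hD, hCD, div_self hD0])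
    exact (div_eq_one_iff_eq hd0).1 this
  refine (Nat.card_le_card_of_injective (fun x : rad m χ => decide (x.1 = 0)) fun x y h => ?_).trans
    (by rw [Nat.card_eq_fintype_card, Fintype.card_bool])
  have h' : x.1 = 0 ↔ y.1 = 0 := decide_eq_decide.1 h
  by_cases hx : x.1 = 0
  · exact Subtype.ext (hx.trans (h'.1 hx).symm)
  · exact Subtype.ext (huniq _ x.2 _ y.2 hx fun hy => hx (h'.2 hy))

/-! ### Eigenspaces of the centre -/

variable {V : Type*} [AddCommGroup V] [Module ℂ V]
variable (hF : Fintype.card F = 2 ^ (2 * m + 1)) (ρ : Representation ℂ ↥(Sz F (2 ^ (m + 1))) V)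

/-- The eigenspace of a character of the centre. -/
def eig (χ : AddChar F ℂ) : Submodule ℂ V where
  carrier := {v | ∀ b, ρ (U hF 0 b) v = χ b • v}
  zero_mem' := fun b => by simp
  add_mem' := fun {v w} hv hw b => by rw [map_add, hv b, hw b, smul_add]
  smul_mem' := fun c v hv b => by rw [map_smul, hv b, smul_comm]

theorem rho_mul (g h : ↥(Sz F (2 ^ (m + 1)))) (v : V) : ρ (g * h) v = ρ g (ρ h v) := by
  rw [map_mul]; rfl

theorem U_central (a b : F) : U hF 0 b * U hF a 0 = U hF a 0 * U hF 0 b := by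
  rw [U_mul, U_mul]
  simp [zero_pow]

theorem U_comm (a b : F) : U hF b 0 * U hF a 0 = U hF 0 (pair m a b) * (U hF a 0 * U hF b 0) := by
  rw [U_mul, U_mul, U_mul]
  congr 1
  · rw [zero_add, add_comm]
  · simp [pair, zero_pow]
    grind

theorem rho_U_eig {χ : AddChar F ℂ} (a : F) {v : V} (hv : v ∈ eig hF ρ χ) : ρ (U hF a 0) v ∈ eig hF ρ χ := by
  intro b
  rw [← rho_mul, U_central, rho_mul, hv b, map_smul]

theorem rho_T_eig {χ : AddChar F ℂ} (t : Fˣ) {v : V} (hv : v ∈ eig hF ρ χ) :
    ρ (T hF t) v ∈ eig hF ρ (χ.mulShift ((t : F) ^ 2 ^ (m + 1))) := by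
  intro b
  have h : U hF 0 b * T hF t = T hF t * U hF 0 ((t : F) ^ 2 ^ (m + 1) * b) := by
    rw [T_conj, mul_zero, mul_div_cancel_left₀ _ (pow_ne_zero _ t.ne_zero)]
  rw [← rho_mul, h, rho_mul, hv, map_smul, AddChar.mulShift_apply]

/-- There is a nonzero common eigenvector with a nontrivial character. -/
theorem exists_eig (h : ∃ b, ρ (U hF 0 b) ≠ 1) : ∃ (χ : AddChar F ℂ) (v : V), χ ≠ 1 ∧ v ≠ 0 ∧ v ∈ eig hF ρ χ := by
  classical
  obtain ⟨b₀, hb₀⟩ := h
  have hsq : ∀ b (v : V), ρ (U hF 0 b) (ρ (U hF 0 b) v) = v := fun b v => by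
    rw [← rho_mul, U_mul, CharTwo.add_self_eq_zero]
    simp [zero_pow, CharTwo.add_self_eq_zero, U_zero]
  have hcomm : ∀ b b' (v : V), ρ (U hF 0 b) (ρ (U hF 0 b') v) = ρ (U hF 0 b') (ρ (U hF 0 b) v) := fun b b' v => by
    rw [← rho_mul, ← rho_mul, U_mul, U_mul, add_comm b b']
  obtain ⟨w, hw⟩ : ∃ w, ρ (U hF 0 b₀) w ≠ w := by
    by_contra hc
    push Not at hc
    exact hb₀ (LinearMap.ext fun w => hc w)
  have main : ∀ s : Finset F, ∃ v : V, v ≠ 0 ∧ ρ (U hF 0 b₀) v = -v ∧
      ∀ b ∈ s, ∃ c : ℂ, ρ (U hF 0 b) v = c • v := by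
    intro s
    induction s using Finset.induction_on with
    | empty =>
      refine ⟨ρ (U hF 0 b₀) w - w, sub_ne_zero.2 hw, ?_, fun b hb => absurd hb (Finset.notMem_empty b)⟩
      rw [map_sub, hsq, neg_sub]
    | insert x s _ ih =>
      obtain ⟨v, hv0, hvb, hvs⟩ := ih
      by_cases hx : ρ (U hF 0 x) v = -v
      · refine ⟨v, hv0, hvb, fun b hb => ?_⟩
        rcases Finset.mem_insert.1 hb with rfl | hb
        · exact ⟨-1, by rw [hx, neg_one_smul]⟩
        · exact hvs b hb
      · refine ⟨ρ (U hF 0 x) v + v, fun h0 => hx (eq_neg_of_add_eq_zero_left h0), ?_, fun b hb => ?_⟩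
        · rw [map_add, hcomm, hvb, map_neg, neg_add]
        · rcases Finset.mem_insert.1 hb with rfl | hb
          · exact ⟨1, by rw [map_add, hsq, one_smul, add_comm]⟩
          · obtain ⟨c, hc⟩ := hvs b hb
            exact ⟨c, by rw [map_add, hcomm, hc, map_smul, smul_add]⟩
  obtain ⟨v, hv0, hvb, hv⟩ := main Finset.univ
  choose c hc using fun b => hv b (Finset.mem_univ b)
  have hinj : Function.Injective fun z : ℂ => z • v := smul_left_injective ℂ hv0
  refine ⟨⟨c, ?_, fun a b => ?_⟩, v, ?_, hv0, hc⟩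
  · exact hinj (show c 0 • v = (1 : ℂ) • v by rw [← hc, U_zero, map_one, one_smul]; rfl)
  · refine hinj (show c (a + b) • v = (c a * c b) • v from ?_)
    have h1 : U hF 0 (a + b) = U hF 0 a * U hF 0 b := by rw [U_mul]; simp [zero_pow]
    rw [← hc, h1, rho_mul, hc b, map_smul, hc a, smul_smul, mul_comm]
  · intro h1
    have h2 : c b₀ = 1 := DFunLike.congr_fun h1 b₀
    have h3 := hc b₀
    rw [hvb, h2, one_smul] at h3
    have h4 : (2 : ℂ) • v = 0 := by
      rw [two_smul]
      exact neg_eq_iff_add_eq_zero.1 h3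
    exact hv0 ((smul_eq_zero.1 h4).resolve_left two_ne_zero)

variable [FiniteDimensional ℂ V]

/-- The dimension of an eigenspace. -/
theorem card_index_le_sq (χ : AddChar F ℂ) (hne : eig hF ρ χ ≠ ⊥) :
    (rad m χ).index ≤ Module.finrank ℂ (eig hF ρ χ) ^ 2 := by
  classical
  set W := eig hF ρ χ with hW
  let A : F → Module.End ℂ W := fun a => (ρ (U hF a 0)).restrict fun v hv => rho_U_eig hF ρ a hv
  have hA : ∀ a (v : W), ((A a v : W) : V) = ρ (U hF a 0) v := fun a v => rfl
  have hAne : ∀ a, A a ≠ 0 := by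
    intro a h0
    obtain ⟨v, hv, hv0⟩ := Submodule.exists_mem_ne_zero_of_ne_bot hne
    have h1 : ρ (U hF a 0) v = 0 := congrArg Subtype.val (LinearMap.congr_fun h0 ⟨v, hv⟩)
    have h2 := congrArg (ρ (U hF a 0)⁻¹) h1
    rw [← rho_mul, inv_mul_cancel, map_one, map_zero] at h2
    exact hv0 h2
  have hswap : ∀ a b (v : W), A b (A a v) = χ (pair m a b) • A a (A b v) := by
    intro a b v
    refine Subtype.ext ?_
    rw [hA, hA, SetLike.val_smul, hA, hA, ← rho_mul, U_comm, rho_mul, rho_mul]
    exact rho_U_eig hF ρ a (rho_U_eig hF ρ b v.2) _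
  have hsurj : ∀ b, Function.Surjective (A b) := by
    intro b
    refine LinearMap.surjective_of_injective fun v w h => Subtype.ext ?_
    have h1 : ρ (U hF b 0) v = ρ (U hF b 0) w := congrArg Subtype.val h
    have h2 := congrArg (ρ (U hF b 0)⁻¹) h1
    rwa [← rho_mul, ← rho_mul, inv_mul_cancel, map_one] at h2
  have hli : LinearIndependent ℂ fun i : F ⧸ rad m χ => A i.out := by
    haveI := Fintype.ofFinite (F ⧸ rad m χ)
    rw [Fintype.linearIndependent_iff]
    intro g hg j
    have h1 : ∀ b, ∑ i, (g i * χ (pair m i.out b)) • A i.out = 0 := by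
      intro b
      refine LinearMap.ext fun w => ?_
      obtain ⟨v, rfl⟩ := hsurj b w
      have h2 := congrArg (A b) (LinearMap.congr_fun hg v)
      simp only [LinearMap.sum_apply, LinearMap.smul_apply, map_sum, map_smul, LinearMap.zero_apply, map_zero]
        at h2 ⊢
      exact (Finset.sum_congr rfl fun i _ => by rw [hswap i.out b v, smul_smul]).trans h2
    have h3 : ∑ b, χ (pair m j.out b) • ∑ i, (g i * χ (pair m i.out b)) • A i.out = 0 :=
      Finset.sum_eq_zero fun b _ => by rw [h1, smul_zero]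
    simp only [Finset.smul_sum, smul_smul] at h3
    rw [Finset.sum_comm] at h3
    simp only [← Finset.sum_smul] at h3
    have h4 : ∀ i, (∑ b, χ (pair m j.out b) * (g i * χ (pair m i.out b))) =
        if i = j then g j * (Fintype.card F : ℂ) else 0 := by
      intro i
      have e : ∀ b, χ (pair m j.out b) * (g i * χ (pair m i.out b)) = g i * χ (pair m (i.out + j.out) b) :=
        fun b => by rw [pair_add, AddChar.map_add_eq_mul]; ring
      rw [Finset.sum_congr rfl fun b _ => e b, ← Finset.mul_sum]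
      split_ifs with h
      · subst h
        congr 1
        simp [CharTwo.add_self_eq_zero, pair, zero_pow, AddChar.map_zero_eq_one]
      · rw [mul_eq_zero]
        refine Or.inr ?_
        let ψ : AddChar F ℂ := ⟨fun b => χ (pair m (i.out + j.out) b), by
          simp [pair, zero_pow, AddChar.map_zero_eq_one], fun x y => by
          simp [pair_comm (i.out + j.out), pair_add, AddChar.map_add_eq_mul]⟩
        refine AddChar.sum_eq_zero_of_ne_one (ψ := ψ) fun h0 => h ?_
        have hmem : i.out + j.out ∈ rad m χ := fun b => DFunLike.congr_fun h0 b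
        rw [← i.out_eq', ← j.out_eq', QuotientAddGroup.eq, CharTwo.neg_eq]
        exact hmem
    simp only [h4, ite_smul, zero_smul, Finset.sum_ite_eq', Finset.mem_univ, if_true] at h3
    rcases smul_eq_zero.1 h3 with h | h
    · exact (mul_eq_zero.1 h).resolve_right (Nat.cast_ne_zero.2 Fintype.card_ne_zero)
    · exact absurd h (hAne _)
  haveI := Fintype.ofFinite (F ⧸ rad m χ)
  have := hli.fintype_card_le_finrank
  rwa [Module.finrank_linearMap, ← pow_two, ← Nat.card_eq_fintype_card] at this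

/-- The eigenspaces in the orbit of one character. -/
theorem orbit_le {χ : AddChar F ℂ} (hχ : χ ≠ 1) :
    (Fintype.card F - 1) * Module.finrank ℂ (eig hF ρ χ) ≤ Module.finrank ℂ V := by
  classical
  let W : Fˣ → Submodule ℂ V := fun t => eig hF ρ (χ.mulShift ((t : F) ^ 2 ^ (m + 1)))
  let Φ : (∀ t, W t) →ₗ[ℂ] V := LinearMap.lsum ℂ (fun t => W t) ℂ fun t => (W t).subtype
  have hΦ : Function.Injective Φ := by
    rw [← LinearMap.ker_eq_bot, LinearMap.ker_eq_bot']
    intro f hf
    funext j
    have h1 : ∑ t, ∑ b : F, χ ((j : F) ^ 2 ^ (m + 1) * b) • ρ (U hF 0 b) (f t : V) = 0 := by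
      rw [Finset.sum_comm]
      simp only [← Finset.smul_sum, ← map_sum]
      have : ∑ t, (f t : V) = 0 := by simpa [Φ, LinearMap.lsum_apply] using hf
      simp [this]
    have h2 : ∀ t, ∑ b : F, χ ((j : F) ^ 2 ^ (m + 1) * b) • ρ (U hF 0 b) (f t : V) =
        if t = j then (Fintype.card F : ℂ) • (f t : V) else 0 := by
      intro t
      simp only [(f t).2 _, smul_smul, AddChar.mulShift_apply, ← AddChar.map_add_eq_mul, ← add_mul, ← Finset.sum_smul]
      rw [sum_shift χ hχ]
      split_ifs with ha hb hb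
      · rfl
      · exact absurd (Units.ext (iterateFrobenius_inj F 2 (m + 1) (by
          simpa [iterateFrobenius_def] using (CharTwo.add_eq_zero.1 ha).symm))) hb
      · exact absurd (by rw [hb, CharTwo.add_self_eq_zero]) ha
      · exact zero_smul _ _
    simp only [h2, Finset.sum_ite_eq', Finset.mem_univ, if_true] at h1
    exact Subtype.ext ((smul_eq_zero.1 h1).resolve_left (Nat.cast_ne_zero.2 Fintype.card_ne_zero))
  have hle := LinearMap.finrank_le_finrank_of_injective hΦ
  rw [Module.finrank_pi_fintype] at hle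
  refine le_trans ?_ hle
  rw [← Fintype.card_units, ← Finset.card_univ, ← smul_eq_mul]
  refine Finset.card_nsmul_le_sum _ _ _ fun t _ => ?_
  refine LinearMap.finrank_le_finrank_of_injective (f := (ρ (T hF t)).restrict fun v hv => rho_T_eig hF ρ t hv) ?_
  intro v w h
  have h1 : ρ (T hF t) v = ρ (T hF t) w := congrArg Subtype.val h
  have h2 := congrArg (ρ (T hF t)⁻¹) h1
  rw [← rho_mul, ← rho_mul, inv_mul_cancel, map_one] at h2
  exact Subtype.ext h2

/-- The bound. -/
theorem degree_ge (h : ∃ b, ρ (U hF 0 b) ≠ 1) :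
    2 ^ m * (2 ^ (2 * m + 1) - 1) ≤ Module.finrank ℂ V := by
  obtain ⟨χ, v, hχ, hv0, hv⟩ := exists_eig hF ρ h
  have h1 := card_index_le_sq hF ρ χ fun hb => hv0 (by rwa [hb, Submodule.mem_bot] at hv)
  have h2 := orbit_le hF ρ hχ
  set d := Module.finrank ℂ (eig hF ρ χ)
  have h3 : 2 ^ (2 * m + 1) ≤ 2 * d ^ 2 := by
    rw [← hF, ← Nat.card_eq_fintype_card, ← (rad m χ).card_mul_index]
    exact Nat.mul_le_mul (card_rad_le hF hχ) h1
  have h4 : 2 ^ m ≤ d := by
    by_contra hc
    push Not at hc
    have : 2 * d ^ 2 < 2 * (2 ^ m) ^ 2 := by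
      have := Nat.pow_lt_pow_left hc (n := 2) (by norm_num)
      omega
    rw [← pow_mul, mul_comm m 2, ← pow_succ'] at this
    omega
  rw [hF] at h2
  exact le_trans (by rw [mul_comm]; exact Nat.mul_le_mul le_rfl h4) h2

end Cfsg.Agent.SzDeg
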